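-- Team project R3 (S1788, helper17), package [PSU] (helper10):
-- `PSU_n(q)`, `q` even, has 2-rank at least 3 (`n ≥ 3`, `q ≥ 8` if `n = 3`).
import Mathlib
import Cfsg.Agent.Lib.Helper17.R3.Defs
import Cfsg.Agent.Lib.Helper45.HermCenter
import Cfsg.Agent.Lib.Helper18.FrobFix

set_option autoImplicit false
open scoped Matrix

namespace Cfsg.Agent.Lib.Helper10.R3

open Cfsg Cfsg.Agent.Lib.Helper45 Cfsg.Agent.Lib.Helper17.R3

section

variable {F : Type} [Field F] [Fintype F] {q n : ℕ}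

/-- the rank-one matrix `x ↦ h(x, w') w` -/
def eMat (q : ℕ) (w w' : Fin n → F) : Matrix (Fin n) (Fin n) F :=
  Matrix.of fun i j => w i * w' j ^ q

omit [Fintype F] in
theorem eMat_mulVec (w w' x : Fin n → F) :
    eMat q w w' *ᵥ x = Cfsg.hermForm n F q x w' • w := by
  funext i
  simp only [eMat, Matrix.mulVec, dotProduct, Matrix.of_apply, Pi.smul_apply, smul_eq_mul,
    herm_def]
  rw [Finset.sum_mul]
  apply Finset.sum_congr rfl
  intro j _
  ring

/-- the nilpotent part -/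
def nMat (q : ℕ) (w1 w2 : Fin n → F) (a c : F) : Matrix (Fin n) (Fin n) F :=
  a • eMat q w1 w1 + c • eMat q w1 w2 + c ^ q • eMat q w2 w1

theorem nMat_mulVec (w1 w2 : Fin n → F) (a c : F) (x : Fin n → F) :
    nMat q w1 w2 a c *ᵥ x =
      (a * Cfsg.hermForm n F q x w1 + c * Cfsg.hermForm n F q x w2) • w1 +
        (c ^ q * Cfsg.hermForm n F q x w1) • w2 := by
  unfold nMat
  rw [Matrix.add_mulVec, Matrix.add_mulVec, Matrix.smul_mulVec, Matrix.smul_mulVec,
    Matrix.smul_mulVec, eMat_mulVec, eMat_mulVec, eMat_mulVec, smul_smul, smul_smul, smul_smul,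
    add_smul]

/-- `w1, w2` span a totally isotropic subspace -/
structure Iso2 (q : ℕ) (w1 w2 : Fin n → F) : Prop where
  h11 : Cfsg.hermForm n F q w1 w1 = 0
  h12 : Cfsg.hermForm n F q w1 w2 = 0
  h21 : Cfsg.hermForm n F q w2 w1 = 0
  h22 : Cfsg.hermForm n F q w2 w2 = 0

theorem herm_comb {w1 w2 : Fin n → F} (hw : Iso2 q w1 w2) (α β : F) :
    Cfsg.hermForm n F q (α • w1 + β • w2) w1 = 0 ∧
      Cfsg.hermForm n F q (α • w1 + β • w2) w2 = 0 := by
  constructor
  · rw [herm_add_left, herm_smul_left, herm_smul_left, hw.h11, hw.h21, mul_zero, mul_zero,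
      add_zero]
  · rw [herm_add_left, herm_smul_left, herm_smul_left, hw.h12, hw.h22, mul_zero, mul_zero,
      add_zero]

theorem nMat_mul {w1 w2 : Fin n → F} (hw : Iso2 q w1 w2) (a c a' c' : F) :
    nMat q w1 w2 a c * nMat q w1 w2 a' c' = 0 := by
  apply Matrix.ext_of_mulVec_single
  intro i
  rw [Matrix.zero_mulVec, ← Matrix.mulVec_mulVec, nMat_mulVec w1 w2 a' c', nMat_mulVec,
    (herm_comb hw _ _).1, (herm_comb hw _ _).2]
  simp

theorem nMat_add (hF : Fintype.card F = q ^ 2) (w1 w2 : Fin n → F) (a c a' c' : F) :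
    nMat q w1 w2 a c + nMat q w1 w2 a' c' = nMat q w1 w2 (a + a') (c + c') := by
  unfold nMat
  rw [conj_add hF]
  simp only [add_smul]
  abel

theorem nMat_zero (hF : Fintype.card F = q ^ 2) (w1 w2 : Fin n → F) :
    nMat q w1 w2 0 0 = 0 := by
  unfold nMat
  rw [conj_zero hF]
  simp

/-- the involution `1 + N(a, c)` -/
def mMat (q : ℕ) (w1 w2 : Fin n → F) (a c : F) : Matrix (Fin n) (Fin n) F :=
  1 + nMat q w1 w2 a c

theorem mMat_mulVec (w1 w2 : Fin n → F) (a c : F) (x : Fin n → F) :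
    mMat q w1 w2 a c *ᵥ x =
      x + ((a * Cfsg.hermForm n F q x w1 + c * Cfsg.hermForm n F q x w2) • w1 +
        (c ^ q * Cfsg.hermForm n F q x w1) • w2) := by
  unfold mMat
  rw [Matrix.add_mulVec, Matrix.one_mulVec, nMat_mulVec]

omit [Fintype F] in
theorem mMat_apply_ne (w1 w2 : Fin n → F) (a c : F) {i j : Fin n} (hij : i ≠ j) :
    mMat q w1 w2 a c i j =
      a * (w1 i * w1 j ^ q) + c * (w1 i * w2 j ^ q) + c ^ q * (w2 i * w1 j ^ q) := by
  simp [mMat, nMat, eMat, Matrix.one_apply_ne hij]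

theorem mMat_mul (hF : Fintype.card F = q ^ 2) {w1 w2 : Fin n → F} (hw : Iso2 q w1 w2)
    (a c a' c' : F) :
    mMat q w1 w2 a c * mMat q w1 w2 a' c' = mMat q w1 w2 (a + a') (c + c') := by
  unfold mMat
  rw [← nMat_add hF]
  have h := nMat_mul hw a c a' c'
  calc (1 + nMat q w1 w2 a c) * (1 + nMat q w1 w2 a' c')
      = 1 + (nMat q w1 w2 a c + nMat q w1 w2 a' c') +
          nMat q w1 w2 a c * nMat q w1 w2 a' c' := by noncomm_ring
    _ = 1 + (nMat q w1 w2 a c + nMat q w1 w2 a' c') := by rw [h, add_zero]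

theorem mMat_sq [CharP F 2] (hF : Fintype.card F = q ^ 2) {w1 w2 : Fin n → F}
    (hw : Iso2 q w1 w2) (a c : F) : mMat q w1 w2 a c * mMat q w1 w2 a c = 1 := by
  rw [mMat_mul hF hw, CharTwo.add_self_eq_zero, CharTwo.add_self_eq_zero]
  unfold mMat
  rw [nMat_zero hF, add_zero]

theorem mMat_det [CharP F 2] (hF : Fintype.card F = q ^ 2) {w1 w2 : Fin n → F}
    (hw : Iso2 q w1 w2) (a c : F) : (mMat q w1 w2 a c).det = 1 := by
  have h := congrArg Matrix.det (mMat_sq hF hw a c)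
  rw [Matrix.det_mul, Matrix.det_one] at h
  have h2 : (2 : F) = 0 := CharTwo.two_eq_zero
  have h3 : ((mMat q w1 w2 a c).det - 1) * ((mMat q w1 w2 a c).det - 1) = 0 := by
    linear_combination h + (1 - (mMat q w1 w2 a c).det) * h2
  exact sub_eq_zero.mp (mul_self_eq_zero.mp h3)

theorem mMat_iso [CharP F 2] (hF : Fintype.card F = q ^ 2) {w1 w2 : Fin n → F}
    (hw : Iso2 q w1 w2) (a c : F) (ha : a ^ q = a) : IsHermIso n F q (mMat q w1 w2 a c) := by
  intro x y
  have h2 : (2 : F) = 0 := CharTwo.two_eq_zero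
  have k1 : ∀ z, Cfsg.hermForm n F q w1 (mMat q w1 w2 a c *ᵥ z) = Cfsg.hermForm n F q w1 z := by
    intro z
    rw [mMat_mulVec, herm_add_right hF, herm_add_right hF, herm_smul_right, herm_smul_right,
      hw.h11, hw.h12, mul_zero, mul_zero, add_zero, add_zero]
  have k2 : ∀ z, Cfsg.hermForm n F q w2 (mMat q w1 w2 a c *ᵥ z) = Cfsg.hermForm n F q w2 z := by
    intro z
    rw [mMat_mulVec, herm_add_right hF, herm_add_right hF, herm_smul_right, herm_smul_right,
      hw.h21, hw.h22, mul_zero, mul_zero, add_zero, add_zero]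
  have e1 : (a * Cfsg.hermForm n F q y w1 + c * Cfsg.hermForm n F q y w2) ^ q =
      a * Cfsg.hermForm n F q y w1 ^ q + c ^ q * Cfsg.hermForm n F q y w2 ^ q := by
    rw [conj_add hF, mul_pow, mul_pow, ha]
  have e2 : (c ^ q * Cfsg.hermForm n F q y w1) ^ q = c * Cfsg.hermForm n F q y w1 ^ q := by
    rw [mul_pow, conj_conj hF]
  have s1 : Cfsg.hermForm n F q (mMat q w1 w2 a c *ᵥ x) (mMat q w1 w2 a c *ᵥ y) =
      Cfsg.hermForm n F q x (mMat q w1 w2 a c *ᵥ y) +
        ((a * Cfsg.hermForm n F q x w1 + c * Cfsg.hermForm n F q x w2) *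
            Cfsg.hermForm n F q w1 (mMat q w1 w2 a c *ᵥ y) +
          (c ^ q * Cfsg.hermForm n F q x w1) *
            Cfsg.hermForm n F q w2 (mMat q w1 w2 a c *ᵥ y)) := by
    rw [mMat_mulVec w1 w2 a c x, herm_add_left, herm_add_left, herm_smul_left, herm_smul_left]
  rw [s1, k1, k2, mMat_mulVec, herm_add_right hF, herm_add_right hF, herm_smul_right,
    herm_smul_right, e1, e2, ← herm_conj hF n y w1, ← herm_conj hF n y w2]
  linear_combination (a * Cfsg.hermForm n F q x w1 * Cfsg.hermForm n F q y w1 ^ q +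
    c ^ q * Cfsg.hermForm n F q x w1 * Cfsg.hermForm n F q y w2 ^ q +
    c * Cfsg.hermForm n F q x w2 * Cfsg.hermForm n F q y w1 ^ q) * h2

/-- the generic family -/
theorem r3_psu_aux [CharP F 2] (hF : Fintype.card F = q ^ 2) {P : Type} [Finite P]
    (A C : P → F) (hA : ∀ p, A p ^ q = A p) (w1 w2 : Fin n → F) (hw : Iso2 q w1 w2)
    (i0 i1 : Fin n) (h01 : i0 ≠ i1) (hw10 : w1 i0 = 1) (hw11 : w1 i1 = 1) (hw20 : w2 i0 = 0)
    (hw21 : w2 i1 = 0)
    (hinj : ∀ p p', A p = A p' →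
      (∀ i2, i0 ≠ i2 → w1 i2 = 0 → w2 i2 = 1 → C p = C p') → p = p')
    (hcard : 8 ≤ Nat.card P) : PRankAtLeast 2 3 (PSU n F q) := by
  classical
  have hq0 : q ≠ 0 := by have := two_le_q hF; omega
  let φ : P → Cfsg.SU n F q := fun p =>
    ⟨⟨mMat q w1 w2 (A p) (C p), mMat_det hF hw _ _⟩, mMat_iso hF hw _ _ (hA p)⟩
  have hmul : ∀ p p', ((φ p * φ p' : Cfsg.SU n F q).1.1 : Matrix (Fin n) (Fin n) F) =
      mMat q w1 w2 (A p + A p') (C p + C p') := by
    intro p p'
    exact mMat_mul hF hw _ _ _ _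
  have hcomm : ∀ p p', φ p * φ p' = φ p' * φ p := by
    intro p p'
    apply Subtype.ext; apply Subtype.ext
    rw [hmul, hmul, add_comm (A p), add_comm (C p)]
  have hsq : ∀ p, φ p * φ p = 1 := by
    intro p
    apply Subtype.ext; apply Subtype.ext
    exact mMat_sq hF hw _ _
  refine r3_quot (Subgroup.center (Cfsg.SU n F q)) φ hcomm hsq ?_ hcard
  intro p p' hz
  have hinv : (φ p)⁻¹ = φ p := inv_eq_of_mul_eq_one_left (hsq p)
  rw [hinv, Subgroup.mem_center_iff] at hz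
  have hZ : ∀ M, IsHermIso n F q M → M.det = 1 →
      M * mMat q w1 w2 (A p + A p') (C p + C p') =
        mMat q w1 w2 (A p + A p') (C p + C p') * M := by
    intro M hM hdet
    have h' := congrArg (fun g : Cfsg.SU n F q => (g.1.1 : Matrix (Fin n) (Fin n) F))
      (hz ⟨⟨M, hdet⟩, hM⟩)
    rw [← hmul]
    exact h'
  apply hinj
  · have h := central_offdiag hF _ hZ i0 i1 h01
    rw [mMat_apply_ne _ _ _ _ h01, hw10, hw11, hw20, hw21] at h
    simp [zero_pow hq0] at h
    exact CharTwo.add_eq_zero.mp h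
  · intro i2 h02 hw12 hw22
    have h := central_offdiag hF _ hZ i0 i2 h02
    rw [mMat_apply_ne _ _ _ _ h02, hw10, hw12, hw20, hw22] at h
    simp [zero_pow hq0] at h
    exact CharTwo.add_eq_zero.mp h

theorem herm_two (hF : Fintype.card F = q ^ 2) (hq0 : q ≠ 0) (i j k l : Fin n) :
    Cfsg.hermForm n F q (Pi.single i 1 + Pi.single j 1) (Pi.single k 1 + Pi.single l 1) =
      ((Pi.single i (1 : F) : Fin n → F) k + (Pi.single j (1 : F) : Fin n → F) k) +
        ((Pi.single i (1 : F) : Fin n → F) l + (Pi.single j (1 : F) : Fin n → F) l) := by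
  rw [herm_add_right hF, herm_single_right hq0, herm_single_right hq0]
  rfl

omit [Fintype F] in
theorem herm_zero_right' (hq0 : q ≠ 0) (u : Fin n → F) : Cfsg.hermForm n F q u 0 = 0 := by
  simp [herm_def, zero_pow hq0]

end

/-- [PSU] -/
theorem pkgPSU : PkgPSU := by
  intro F _ _ _ n q hF hn h3
  classical
  have hq2 : 2 ≤ q := two_le_q hF
  have hq0 : q ≠ 0 := by omega
  have hK : Nat.card {a : F // a ^ q = a} = q :=
    Cfsg.Agent.Lib.Helper18.card_pow_eq_self q (by omega) hF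
  have h11 : (1 : F) + 1 = 0 := CharTwo.add_self_eq_zero 1
  by_cases hn3 : n = 3
  · have hq8 := h3 hn3
    obtain ⟨i0, i1, h01⟩ : ∃ i0 i1 : Fin n, i0 ≠ i1 :=
      ⟨⟨0, by omega⟩, ⟨1, by omega⟩, by simp⟩
    refine r3_psu_aux hF (P := {a : F // a ^ q = a}) (fun p => p.1) (fun _ => 0) (fun p => p.2)
      (Pi.single i0 1 + Pi.single i1 1) 0 ?_ i0 i1 h01 ?_ ?_ rfl rfl ?_ ?_
    · refine ⟨?_, herm_zero_right' hq0 _, herm_zero_left hF n _, herm_zero_left hF n _⟩
      rw [herm_two hF hq0]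
      simp [Pi.single_apply, h01, h01.symm, h11]
    · simp [Pi.single_apply, h01]
    · simp [Pi.single_apply, h01.symm]
    · intro p p' hA _
      exact Subtype.ext hA
    · rw [hK]
      exact hq8
  · have hn4 : 4 ≤ n := by omega
    obtain ⟨i0, i1, i2, i3, h01, h02, h03, h12, h13, h23⟩ : ∃ i0 i1 i2 i3 : Fin n,
        i0 ≠ i1 ∧ i0 ≠ i2 ∧ i0 ≠ i3 ∧ i1 ≠ i2 ∧ i1 ≠ i3 ∧ i2 ≠ i3 :=
      ⟨⟨0, by omega⟩, ⟨1, by omega⟩, ⟨2, by omega⟩, ⟨3, by omega⟩, by simp, by simp, by simp,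
        by simp, by simp, by simp⟩
    refine r3_psu_aux hF (P := {a : F // a ^ q = a} × F) (fun p => p.1.1) (fun p => p.2)
      (fun p => p.1.2) (Pi.single i0 1 + Pi.single i1 1) (Pi.single i2 1 + Pi.single i3 1) ?_
      i0 i1 h01 ?_ ?_ ?_ ?_ ?_ ?_
    · refine ⟨?_, ?_, ?_, ?_⟩
      · rw [herm_two hF hq0]
        simp [Pi.single_apply, h01, h01.symm, h11]
      · rw [herm_two hF hq0]
        simp [Pi.single_apply, h02, h02.symm, h03, h03.symm, h12, h12.symm, h13, h13.symm]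
      · rw [herm_two hF hq0]
        simp [Pi.single_apply, h02, h02.symm, h03, h03.symm, h12, h12.symm, h13, h13.symm]
      · rw [herm_two hF hq0]
        simp [Pi.single_apply, h23, h23.symm, h11]
    · simp [Pi.single_apply, h01]
    · simp [Pi.single_apply, h01.symm]
    · simp [Pi.single_apply, h02, h03]
    · simp [Pi.single_apply, h12, h13]
    · intro p p' hA hC
      have hc := hC i2 h02 (by simp [Pi.single_apply, h02.symm, h12.symm])
        (by simp [Pi.single_apply, h23])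
      exact Prod.ext (Subtype.ext hA) hc
    · rw [Nat.card_prod, hK, Nat.card_eq_fintype_card, hF]
      calc 8 = 2 * 2 ^ 2 := by norm_num
        _ ≤ q * q ^ 2 := Nat.mul_le_mul hq2 (Nat.pow_le_pow_left hq2 2)

end Cfsg.Agent.Lib.Helper10.R3
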